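import Cfsg.Agent.Lib.Spor.Cos.Co2Out.Defs

/-! Data and checks for the automorphisms of a group on 4600 points. -/

set_option autoImplicit false
set_option maxRecDepth 100000
set_option maxHeartbeats 4000000

namespace Cfsg.Agent.Spor.Cos.Co2Out


theorem cls_b16 : allBlock (chkCls) 56925 250 16 = true := by decide +kernel

theorem cls_b17 : allBlock (chkCls) 56925 250 17 = true := by decide +kernel

theorem cls_b18 : allBlock (chkCls) 56925 250 18 = true := by decide +kernel

theorem cls_b19 : allBlock (chkCls) 56925 250 19 = true := by decide +kernel

theorem cls_b20 : allBlock (chkCls) 56925 250 20 = true := by decide +kernel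

theorem cls_b21 : allBlock (chkCls) 56925 250 21 = true := by decide +kernel

theorem cls_b22 : allBlock (chkCls) 56925 250 22 = true := by decide +kernel

theorem cls_b23 : allBlock (chkCls) 56925 250 23 = true := by decide +kernel

theorem cls_b24 : allBlock (chkCls) 56925 250 24 = true := by decide +kernel

theorem cls_b25 : allBlock (chkCls) 56925 250 25 = true := by decide +kernel

theorem cls_b26 : allBlock (chkCls) 56925 250 26 = true := by decide +kernel

theorem cls_b27 : allBlock (chkCls) 56925 250 27 = true := by decide +kernel

theorem cls_b28 : allBlock (chkCls) 56925 250 28 = true := by decide +kernel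

theorem cls_b29 : allBlock (chkCls) 56925 250 29 = true := by decide +kernel

theorem cls_b30 : allBlock (chkCls) 56925 250 30 = true := by decide +kernel

theorem cls_b31 : allBlock (chkCls) 56925 250 31 = true := by decide +kernel

end Cfsg.Agent.Spor.Cos.Co2Out
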