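import Cfsg.Agent.Lib.Spor.Cos.Co2Out.Defs

/-! Data and checks for the automorphisms of a group on 4600 points. -/

set_option autoImplicit false
set_option maxRecDepth 100000
set_option maxHeartbeats 4000000

namespace Cfsg.Agent.Spor.Cos.Co2Out


theorem cls_b160 : allBlock (chkCls) 56925 250 160 = true := by decide +kernel

theorem cls_b161 : allBlock (chkCls) 56925 250 161 = true := by decide +kernel

theorem cls_b162 : allBlock (chkCls) 56925 250 162 = true := by decide +kernel

theorem cls_b163 : allBlock (chkCls) 56925 250 163 = true := by decide +kernel

theorem cls_b164 : allBlock (chkCls) 56925 250 164 = true := by decide +kernel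

theorem cls_b165 : allBlock (chkCls) 56925 250 165 = true := by decide +kernel

theorem cls_b166 : allBlock (chkCls) 56925 250 166 = true := by decide +kernel

theorem cls_b167 : allBlock (chkCls) 56925 250 167 = true := by decide +kernel

theorem cls_b168 : allBlock (chkCls) 56925 250 168 = true := by decide +kernel

theorem cls_b169 : allBlock (chkCls) 56925 250 169 = true := by decide +kernel

theorem cls_b170 : allBlock (chkCls) 56925 250 170 = true := by decide +kernel

theorem cls_b171 : allBlock (chkCls) 56925 250 171 = true := by decide +kernel

theorem cls_b172 : allBlock (chkCls) 56925 250 172 = true := by decide +kernel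

theorem cls_b173 : allBlock (chkCls) 56925 250 173 = true := by decide +kernel

theorem cls_b174 : allBlock (chkCls) 56925 250 174 = true := by decide +kernel

theorem cls_b175 : allBlock (chkCls) 56925 250 175 = true := by decide +kernel

end Cfsg.Agent.Spor.Cos.Co2Out
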