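import Cfsg.Agent.Lib.Spor.Cos.Co2Out.Defs

/-! Data and checks for the automorphisms of a group on 4600 points. -/

set_option autoImplicit false
set_option maxRecDepth 100000
set_option maxHeartbeats 4000000

namespace Cfsg.Agent.Spor.Cos.Co2Out


theorem cls_b192 : allBlock (chkCls) 56925 250 192 = true := by decide +kernel

theorem cls_b193 : allBlock (chkCls) 56925 250 193 = true := by decide +kernel

theorem cls_b194 : allBlock (chkCls) 56925 250 194 = true := by decide +kernel

theorem cls_b195 : allBlock (chkCls) 56925 250 195 = true := by decide +kernel

theorem cls_b196 : allBlock (chkCls) 56925 250 196 = true := by decide +kernel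

theorem cls_b197 : allBlock (chkCls) 56925 250 197 = true := by decide +kernel

theorem cls_b198 : allBlock (chkCls) 56925 250 198 = true := by decide +kernel

theorem cls_b199 : allBlock (chkCls) 56925 250 199 = true := by decide +kernel

theorem cls_b200 : allBlock (chkCls) 56925 250 200 = true := by decide +kernel

theorem cls_b201 : allBlock (chkCls) 56925 250 201 = true := by decide +kernel

theorem cls_b202 : allBlock (chkCls) 56925 250 202 = true := by decide +kernel

theorem cls_b203 : allBlock (chkCls) 56925 250 203 = true := by decide +kernel

theorem cls_b204 : allBlock (chkCls) 56925 250 204 = true := by decide +kernel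

theorem cls_b205 : allBlock (chkCls) 56925 250 205 = true := by decide +kernel

theorem cls_b206 : allBlock (chkCls) 56925 250 206 = true := by decide +kernel

theorem cls_b207 : allBlock (chkCls) 56925 250 207 = true := by decide +kernel

end Cfsg.Agent.Spor.Cos.Co2Out
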