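import Cfsg.Agent.Lib.Spor.Cos.Co2Out.Defs

/-! Data and checks for the automorphisms of a group on 4600 points. -/

set_option autoImplicit false
set_option maxRecDepth 100000
set_option maxHeartbeats 4000000

namespace Cfsg.Agent.Spor.Cos.Co2Out


theorem cls_b208 : allBlock (chkCls) 56925 250 208 = true := by decide +kernel

theorem cls_b209 : allBlock (chkCls) 56925 250 209 = true := by decide +kernel

theorem cls_b210 : allBlock (chkCls) 56925 250 210 = true := by decide +kernel

theorem cls_b211 : allBlock (chkCls) 56925 250 211 = true := by decide +kernel

theorem cls_b212 : allBlock (chkCls) 56925 250 212 = true := by decide +kernel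

theorem cls_b213 : allBlock (chkCls) 56925 250 213 = true := by decide +kernel

theorem cls_b214 : allBlock (chkCls) 56925 250 214 = true := by decide +kernel

theorem cls_b215 : allBlock (chkCls) 56925 250 215 = true := by decide +kernel

theorem cls_b216 : allBlock (chkCls) 56925 250 216 = true := by decide +kernel

theorem cls_b217 : allBlock (chkCls) 56925 250 217 = true := by decide +kernel

theorem cls_b218 : allBlock (chkCls) 56925 250 218 = true := by decide +kernel

theorem cls_b219 : allBlock (chkCls) 56925 250 219 = true := by decide +kernel

theorem cls_b220 : allBlock (chkCls) 56925 250 220 = true := by decide +kernel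

theorem cls_b221 : allBlock (chkCls) 56925 250 221 = true := by decide +kernel

theorem cls_b222 : allBlock (chkCls) 56925 250 222 = true := by decide +kernel

theorem cls_b223 : allBlock (chkCls) 56925 250 223 = true := by decide +kernel

end Cfsg.Agent.Spor.Cos.Co2Out
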