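import Cfsg.Agent.Lib.Spor.Cos.Co2Out.Defs

/-! Data and checks for the automorphisms of a group on 4600 points. -/

set_option autoImplicit false
set_option maxRecDepth 100000
set_option maxHeartbeats 4000000

namespace Cfsg.Agent.Spor.Cos.Co2Out


theorem cls_b224 : allBlock (chkCls) 56925 250 224 = true := by decide +kernel

theorem cls_b225 : allBlock (chkCls) 56925 250 225 = true := by decide +kernel

theorem cls_b226 : allBlock (chkCls) 56925 250 226 = true := by decide +kernel

theorem cls_b227 : allBlock (chkCls) 56925 250 227 = true := by decide +kernel

end Cfsg.Agent.Spor.Cos.Co2Out
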