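import Cfsg.Agent.Lib.Spor.Cos.Co2Out.Defs

/-! Data and checks for the automorphisms of a group on 4600 points. -/

set_option autoImplicit false
set_option maxRecDepth 100000
set_option maxHeartbeats 4000000

namespace Cfsg.Agent.Spor.Cos.Co2Out


theorem cls_b32 : allBlock (chkCls) 56925 250 32 = true := by decide +kernel

theorem cls_b33 : allBlock (chkCls) 56925 250 33 = true := by decide +kernel

theorem cls_b34 : allBlock (chkCls) 56925 250 34 = true := by decide +kernel

theorem cls_b35 : allBlock (chkCls) 56925 250 35 = true := by decide +kernel

theorem cls_b36 : allBlock (chkCls) 56925 250 36 = true := by decide +kernel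

theorem cls_b37 : allBlock (chkCls) 56925 250 37 = true := by decide +kernel

theorem cls_b38 : allBlock (chkCls) 56925 250 38 = true := by decide +kernel

theorem cls_b39 : allBlock (chkCls) 56925 250 39 = true := by decide +kernel

theorem cls_b40 : allBlock (chkCls) 56925 250 40 = true := by decide +kernel

theorem cls_b41 : allBlock (chkCls) 56925 250 41 = true := by decide +kernel

theorem cls_b42 : allBlock (chkCls) 56925 250 42 = true := by decide +kernel

theorem cls_b43 : allBlock (chkCls) 56925 250 43 = true := by decide +kernel

theorem cls_b44 : allBlock (chkCls) 56925 250 44 = true := by decide +kernel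

theorem cls_b45 : allBlock (chkCls) 56925 250 45 = true := by decide +kernel

theorem cls_b46 : allBlock (chkCls) 56925 250 46 = true := by decide +kernel

theorem cls_b47 : allBlock (chkCls) 56925 250 47 = true := by decide +kernel

end Cfsg.Agent.Spor.Cos.Co2Out
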