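import Cfsg.Agent.Lib.Spor.Cos.Co2Out.Defs

/-! Data and checks for the automorphisms of a group on 4600 points. -/

set_option autoImplicit false
set_option maxRecDepth 100000
set_option maxHeartbeats 4000000

namespace Cfsg.Agent.Spor.Cos.Co2Out


theorem cls_b48 : allBlock (chkCls) 56925 250 48 = true := by decide +kernel

theorem cls_b49 : allBlock (chkCls) 56925 250 49 = true := by decide +kernel

theorem cls_b50 : allBlock (chkCls) 56925 250 50 = true := by decide +kernel

theorem cls_b51 : allBlock (chkCls) 56925 250 51 = true := by decide +kernel

theorem cls_b52 : allBlock (chkCls) 56925 250 52 = true := by decide +kernel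

theorem cls_b53 : allBlock (chkCls) 56925 250 53 = true := by decide +kernel

theorem cls_b54 : allBlock (chkCls) 56925 250 54 = true := by decide +kernel

theorem cls_b55 : allBlock (chkCls) 56925 250 55 = true := by decide +kernel

theorem cls_b56 : allBlock (chkCls) 56925 250 56 = true := by decide +kernel

theorem cls_b57 : allBlock (chkCls) 56925 250 57 = true := by decide +kernel

theorem cls_b58 : allBlock (chkCls) 56925 250 58 = true := by decide +kernel

theorem cls_b59 : allBlock (chkCls) 56925 250 59 = true := by decide +kernel

theorem cls_b60 : allBlock (chkCls) 56925 250 60 = true := by decide +kernel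

theorem cls_b61 : allBlock (chkCls) 56925 250 61 = true := by decide +kernel

theorem cls_b62 : allBlock (chkCls) 56925 250 62 = true := by decide +kernel

theorem cls_b63 : allBlock (chkCls) 56925 250 63 = true := by decide +kernel

end Cfsg.Agent.Spor.Cos.Co2Out
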