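import Cfsg.Agent.Lib.Spor.Cos.Co2Out.Defs

/-! Data and checks for the automorphisms of a group on 4600 points. -/

set_option autoImplicit false
set_option maxRecDepth 100000
set_option maxHeartbeats 4000000

namespace Cfsg.Agent.Spor.Cos.Co2Out


theorem cls_b64 : allBlock (chkCls) 56925 250 64 = true := by decide +kernel

theorem cls_b65 : allBlock (chkCls) 56925 250 65 = true := by decide +kernel

theorem cls_b66 : allBlock (chkCls) 56925 250 66 = true := by decide +kernel

theorem cls_b67 : allBlock (chkCls) 56925 250 67 = true := by decide +kernel

theorem cls_b68 : allBlock (chkCls) 56925 250 68 = true := by decide +kernel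

theorem cls_b69 : allBlock (chkCls) 56925 250 69 = true := by decide +kernel

theorem cls_b70 : allBlock (chkCls) 56925 250 70 = true := by decide +kernel

theorem cls_b71 : allBlock (chkCls) 56925 250 71 = true := by decide +kernel

theorem cls_b72 : allBlock (chkCls) 56925 250 72 = true := by decide +kernel

theorem cls_b73 : allBlock (chkCls) 56925 250 73 = true := by decide +kernel

theorem cls_b74 : allBlock (chkCls) 56925 250 74 = true := by decide +kernel

theorem cls_b75 : allBlock (chkCls) 56925 250 75 = true := by decide +kernel

theorem cls_b76 : allBlock (chkCls) 56925 250 76 = true := by decide +kernel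

theorem cls_b77 : allBlock (chkCls) 56925 250 77 = true := by decide +kernel

theorem cls_b78 : allBlock (chkCls) 56925 250 78 = true := by decide +kernel

theorem cls_b79 : allBlock (chkCls) 56925 250 79 = true := by decide +kernel

end Cfsg.Agent.Spor.Cos.Co2Out
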