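import Cfsg.Agent.Lib.Spor.Cos.Co2Out.Defs

/-! Data and checks for the automorphisms of a group on 4600 points. -/

set_option autoImplicit false
set_option maxRecDepth 100000
set_option maxHeartbeats 4000000

namespace Cfsg.Agent.Spor.Cos.Co2Out


theorem cls_b80 : allBlock (chkCls) 56925 250 80 = true := by decide +kernel

theorem cls_b81 : allBlock (chkCls) 56925 250 81 = true := by decide +kernel

theorem cls_b82 : allBlock (chkCls) 56925 250 82 = true := by decide +kernel

theorem cls_b83 : allBlock (chkCls) 56925 250 83 = true := by decide +kernel

theorem cls_b84 : allBlock (chkCls) 56925 250 84 = true := by decide +kernel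

theorem cls_b85 : allBlock (chkCls) 56925 250 85 = true := by decide +kernel

theorem cls_b86 : allBlock (chkCls) 56925 250 86 = true := by decide +kernel

theorem cls_b87 : allBlock (chkCls) 56925 250 87 = true := by decide +kernel

theorem cls_b88 : allBlock (chkCls) 56925 250 88 = true := by decide +kernel

theorem cls_b89 : allBlock (chkCls) 56925 250 89 = true := by decide +kernel

theorem cls_b90 : allBlock (chkCls) 56925 250 90 = true := by decide +kernel

theorem cls_b91 : allBlock (chkCls) 56925 250 91 = true := by decide +kernel

theorem cls_b92 : allBlock (chkCls) 56925 250 92 = true := by decide +kernel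

theorem cls_b93 : allBlock (chkCls) 56925 250 93 = true := by decide +kernel

theorem cls_b94 : allBlock (chkCls) 56925 250 94 = true := by decide +kernel

theorem cls_b95 : allBlock (chkCls) 56925 250 95 = true := by decide +kernel

end Cfsg.Agent.Spor.Cos.Co2Out
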