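import Cfsg.Agent.Lib.Spor.Cos.Co2Out.Defs

/-! Data and checks for the automorphisms of a group on 4600 points. -/

set_option autoImplicit false
set_option maxRecDepth 100000
set_option maxHeartbeats 4000000

namespace Cfsg.Agent.Spor.Cos.Co2Out


theorem cls_b96 : allBlock (chkCls) 56925 250 96 = true := by decide +kernel

theorem cls_b97 : allBlock (chkCls) 56925 250 97 = true := by decide +kernel

theorem cls_b98 : allBlock (chkCls) 56925 250 98 = true := by decide +kernel

theorem cls_b99 : allBlock (chkCls) 56925 250 99 = true := by decide +kernel

theorem cls_b100 : allBlock (chkCls) 56925 250 100 = true := by decide +kernel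

theorem cls_b101 : allBlock (chkCls) 56925 250 101 = true := by decide +kernel

theorem cls_b102 : allBlock (chkCls) 56925 250 102 = true := by decide +kernel

theorem cls_b103 : allBlock (chkCls) 56925 250 103 = true := by decide +kernel

theorem cls_b104 : allBlock (chkCls) 56925 250 104 = true := by decide +kernel

theorem cls_b105 : allBlock (chkCls) 56925 250 105 = true := by decide +kernel

theorem cls_b106 : allBlock (chkCls) 56925 250 106 = true := by decide +kernel

theorem cls_b107 : allBlock (chkCls) 56925 250 107 = true := by decide +kernel

theorem cls_b108 : allBlock (chkCls) 56925 250 108 = true := by decide +kernel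

theorem cls_b109 : allBlock (chkCls) 56925 250 109 = true := by decide +kernel

theorem cls_b110 : allBlock (chkCls) 56925 250 110 = true := by decide +kernel

theorem cls_b111 : allBlock (chkCls) 56925 250 111 = true := by decide +kernel

end Cfsg.Agent.Spor.Cos.Co2Out
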