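import Cfsg.Agent.Lib.Spor.Cos.Co2Out.Defs

/-! Data and checks for the automorphisms of a group on 4600 points. -/

set_option autoImplicit false
set_option maxRecDepth 100000
set_option maxHeartbeats 4000000

namespace Cfsg.Agent.Spor.Cos.Co2Out


theorem cls_b112 : allBlock (chkCls) 56925 250 112 = true := by decide +kernel

theorem cls_b113 : allBlock (chkCls) 56925 250 113 = true := by decide +kernel

theorem cls_b114 : allBlock (chkCls) 56925 250 114 = true := by decide +kernel

theorem cls_b115 : allBlock (chkCls) 56925 250 115 = true := by decide +kernel

theorem cls_b116 : allBlock (chkCls) 56925 250 116 = true := by decide +kernel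

theorem cls_b117 : allBlock (chkCls) 56925 250 117 = true := by decide +kernel

theorem cls_b118 : allBlock (chkCls) 56925 250 118 = true := by decide +kernel

theorem cls_b119 : allBlock (chkCls) 56925 250 119 = true := by decide +kernel

theorem cls_b120 : allBlock (chkCls) 56925 250 120 = true := by decide +kernel

theorem cls_b121 : allBlock (chkCls) 56925 250 121 = true := by decide +kernel

theorem cls_b122 : allBlock (chkCls) 56925 250 122 = true := by decide +kernel

theorem cls_b123 : allBlock (chkCls) 56925 250 123 = true := by decide +kernel

theorem cls_b124 : allBlock (chkCls) 56925 250 124 = true := by decide +kernel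

theorem cls_b125 : allBlock (chkCls) 56925 250 125 = true := by decide +kernel

theorem cls_b126 : allBlock (chkCls) 56925 250 126 = true := by decide +kernel

theorem cls_b127 : allBlock (chkCls) 56925 250 127 = true := by decide +kernel

end Cfsg.Agent.Spor.Cos.Co2Out
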