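import Cfsg.Agent.Lib.Spor.Cos.Co2Out.Defs

/-! Data and checks for the automorphisms of a group on 4600 points. -/

set_option autoImplicit false
set_option maxRecDepth 100000
set_option maxHeartbeats 4000000

namespace Cfsg.Agent.Spor.Cos.Co2Out


theorem cls_b128 : allBlock (chkCls) 56925 250 128 = true := by decide +kernel

theorem cls_b129 : allBlock (chkCls) 56925 250 129 = true := by decide +kernel

theorem cls_b130 : allBlock (chkCls) 56925 250 130 = true := by decide +kernel

theorem cls_b131 : allBlock (chkCls) 56925 250 131 = true := by decide +kernel

theorem cls_b132 : allBlock (chkCls) 56925 250 132 = true := by decide +kernel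

theorem cls_b133 : allBlock (chkCls) 56925 250 133 = true := by decide +kernel

theorem cls_b134 : allBlock (chkCls) 56925 250 134 = true := by decide +kernel

theorem cls_b135 : allBlock (chkCls) 56925 250 135 = true := by decide +kernel

theorem cls_b136 : allBlock (chkCls) 56925 250 136 = true := by decide +kernel

theorem cls_b137 : allBlock (chkCls) 56925 250 137 = true := by decide +kernel

theorem cls_b138 : allBlock (chkCls) 56925 250 138 = true := by decide +kernel

theorem cls_b139 : allBlock (chkCls) 56925 250 139 = true := by decide +kernel

theorem cls_b140 : allBlock (chkCls) 56925 250 140 = true := by decide +kernel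

theorem cls_b141 : allBlock (chkCls) 56925 250 141 = true := by decide +kernel

theorem cls_b142 : allBlock (chkCls) 56925 250 142 = true := by decide +kernel

theorem cls_b143 : allBlock (chkCls) 56925 250 143 = true := by decide +kernel

end Cfsg.Agent.Spor.Cos.Co2Out
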