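import Cfsg.Agent.Lib.Spor.Cos.Co2Out.Defs

/-! Data and checks for the automorphisms of a group on 4600 points. -/

set_option autoImplicit false
set_option maxRecDepth 100000
set_option maxHeartbeats 4000000

namespace Cfsg.Agent.Spor.Cos.Co2Out


theorem cls_b144 : allBlock (chkCls) 56925 250 144 = true := by decide +kernel

theorem cls_b145 : allBlock (chkCls) 56925 250 145 = true := by decide +kernel

theorem cls_b146 : allBlock (chkCls) 56925 250 146 = true := by decide +kernel

theorem cls_b147 : allBlock (chkCls) 56925 250 147 = true := by decide +kernel

theorem cls_b148 : allBlock (chkCls) 56925 250 148 = true := by decide +kernel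

theorem cls_b149 : allBlock (chkCls) 56925 250 149 = true := by decide +kernel

theorem cls_b150 : allBlock (chkCls) 56925 250 150 = true := by decide +kernel

theorem cls_b151 : allBlock (chkCls) 56925 250 151 = true := by decide +kernel

theorem cls_b152 : allBlock (chkCls) 56925 250 152 = true := by decide +kernel

theorem cls_b153 : allBlock (chkCls) 56925 250 153 = true := by decide +kernel

theorem cls_b154 : allBlock (chkCls) 56925 250 154 = true := by decide +kernel

theorem cls_b155 : allBlock (chkCls) 56925 250 155 = true := by decide +kernel

theorem cls_b156 : allBlock (chkCls) 56925 250 156 = true := by decide +kernel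

theorem cls_b157 : allBlock (chkCls) 56925 250 157 = true := by decide +kernel

theorem cls_b158 : allBlock (chkCls) 56925 250 158 = true := by decide +kernel

theorem cls_b159 : allBlock (chkCls) 56925 250 159 = true := by decide +kernel

end Cfsg.Agent.Spor.Cos.Co2Out
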