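import Cfsg.Agent.Lib.Spor.Cos.Co2Out.ClsChk0
import Cfsg.Agent.Lib.Spor.Cos.Co2Out.ClsChk1
import Cfsg.Agent.Lib.Spor.Cos.Co2Out.ClsChk2
import Cfsg.Agent.Lib.Spor.Cos.Co2Out.ClsChk3
import Cfsg.Agent.Lib.Spor.Cos.Co2Out.ClsChk4
import Cfsg.Agent.Lib.Spor.Cos.Co2Out.ClsChk5
import Cfsg.Agent.Lib.Spor.Cos.Co2Out.ClsChk6
import Cfsg.Agent.Lib.Spor.Cos.Co2Out.ClsChk7
import Cfsg.Agent.Lib.Spor.Cos.Co2Out.ClsChk8
import Cfsg.Agent.Lib.Spor.Cos.Co2Out.ClsChk9
import Cfsg.Agent.Lib.Spor.Cos.Co2Out.ClsChk10
import Cfsg.Agent.Lib.Spor.Cos.Co2Out.ClsChk11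
import Cfsg.Agent.Lib.Spor.Cos.Co2Out.ClsChk12
import Cfsg.Agent.Lib.Spor.Cos.Co2Out.ClsChk13
import Cfsg.Agent.Lib.Spor.Cos.Co2Out.ClsChk14

/-! Data and checks for the automorphisms of a group on 4600 points. -/

set_option autoImplicit false
set_option maxRecDepth 100000
set_option maxHeartbeats 4000000

namespace Cfsg.Agent.Spor.Cos.Co2Out


theorem cls_ok : ∀ i < 56925, (chkCls) i = true := by
  refine of_blocks (size := 250) (b := 228) (by decide) (by decide) fun j hj => ?_
  interval_cases j
  · exact cls_b0
  · exact cls_b1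
  · exact cls_b2
  · exact cls_b3
  · exact cls_b4
  · exact cls_b5
  · exact cls_b6
  · exact cls_b7
  · exact cls_b8
  · exact cls_b9
  · exact cls_b10
  · exact cls_b11
  · exact cls_b12
  · exact cls_b13
  · exact cls_b14
  · exact cls_b15
  · exact cls_b16
  · exact cls_b17
  · exact cls_b18
  · exact cls_b19
  · exact cls_b20
  · exact cls_b21
  · exact cls_b22
  · exact cls_b23
  · exact cls_b24
  · exact cls_b25
  · exact cls_b26
  · exact cls_b27
  · exact cls_b28
  · exact cls_b29
  · exact cls_b30
  · exact cls_b31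
  · exact cls_b32
  · exact cls_b33
  · exact cls_b34
  · exact cls_b35
  · exact cls_b36
  · exact cls_b37
  · exact cls_b38
  · exact cls_b39
  · exact cls_b40
  · exact cls_b41
  · exact cls_b42
  · exact cls_b43
  · exact cls_b44
  · exact cls_b45
  · exact cls_b46
  · exact cls_b47
  · exact cls_b48
  · exact cls_b49
  · exact cls_b50
  · exact cls_b51
  · exact cls_b52
  · exact cls_b53
  · exact cls_b54
  · exact cls_b55
  · exact cls_b56
  · exact cls_b57
  · exact cls_b58
  · exact cls_b59
  · exact cls_b60
  · exact cls_b61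
  · exact cls_b62
  · exact cls_b63
  · exact cls_b64
  · exact cls_b65
  · exact cls_b66
  · exact cls_b67
  · exact cls_b68
  · exact cls_b69
  · exact cls_b70
  · exact cls_b71
  · exact cls_b72
  · exact cls_b73
  · exact cls_b74
  · exact cls_b75
  · exact cls_b76
  · exact cls_b77
  · exact cls_b78
  · exact cls_b79
  · exact cls_b80
  · exact cls_b81
  · exact cls_b82
  · exact cls_b83
  · exact cls_b84
  · exact cls_b85
  · exact cls_b86
  · exact cls_b87
  · exact cls_b88
  · exact cls_b89
  · exact cls_b90
  · exact cls_b91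
  · exact cls_b92
  · exact cls_b93
  · exact cls_b94
  · exact cls_b95
  · exact cls_b96
  · exact cls_b97
  · exact cls_b98
  · exact cls_b99
  · exact cls_b100
  · exact cls_b101
  · exact cls_b102
  · exact cls_b103
  · exact cls_b104
  · exact cls_b105
  · exact cls_b106
  · exact cls_b107
  · exact cls_b108
  · exact cls_b109
  · exact cls_b110
  · exact cls_b111
  · exact cls_b112
  · exact cls_b113
  · exact cls_b114
  · exact cls_b115
  · exact cls_b116
  · exact cls_b117
  · exact cls_b118
  · exact cls_b119
  · exact cls_b120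
  · exact cls_b121
  · exact cls_b122
  · exact cls_b123
  · exact cls_b124
  · exact cls_b125
  · exact cls_b126
  · exact cls_b127
  · exact cls_b128
  · exact cls_b129
  · exact cls_b130
  · exact cls_b131
  · exact cls_b132
  · exact cls_b133
  · exact cls_b134
  · exact cls_b135
  · exact cls_b136
  · exact cls_b137
  · exact cls_b138
  · exact cls_b139
  · exact cls_b140
  · exact cls_b141
  · exact cls_b142
  · exact cls_b143
  · exact cls_b144
  · exact cls_b145
  · exact cls_b146
  · exact cls_b147
  · exact cls_b148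
  · exact cls_b149
  · exact cls_b150
  · exact cls_b151
  · exact cls_b152
  · exact cls_b153
  · exact cls_b154
  · exact cls_b155
  · exact cls_b156
  · exact cls_b157
  · exact cls_b158
  · exact cls_b159
  · exact cls_b160
  · exact cls_b161
  · exact cls_b162
  · exact cls_b163
  · exact cls_b164
  · exact cls_b165
  · exact cls_b166
  · exact cls_b167
  · exact cls_b168
  · exact cls_b169
  · exact cls_b170
  · exact cls_b171
  · exact cls_b172
  · exact cls_b173
  · exact cls_b174
  · exact cls_b175
  · exact cls_b176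
  · exact cls_b177
  · exact cls_b178
  · exact cls_b179
  · exact cls_b180
  · exact cls_b181
  · exact cls_b182
  · exact cls_b183
  · exact cls_b184
  · exact cls_b185
  · exact cls_b186
  · exact cls_b187
  · exact cls_b188
  · exact cls_b189
  · exact cls_b190
  · exact cls_b191
  · exact cls_b192
  · exact cls_b193
  · exact cls_b194
  · exact cls_b195
  · exact cls_b196
  · exact cls_b197
  · exact cls_b198
  · exact cls_b199
  · exact cls_b200
  · exact cls_b201
  · exact cls_b202
  · exact cls_b203
  · exact cls_b204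
  · exact cls_b205
  · exact cls_b206
  · exact cls_b207
  · exact cls_b208
  · exact cls_b209
  · exact cls_b210
  · exact cls_b211
  · exact cls_b212
  · exact cls_b213
  · exact cls_b214
  · exact cls_b215
  · exact cls_b216
  · exact cls_b217
  · exact cls_b218
  · exact cls_b219
  · exact cls_b220
  · exact cls_b221
  · exact cls_b222
  · exact cls_b223
  · exact cls_b224
  · exact cls_b225
  · exact cls_b226
  · exact cls_b227

end Cfsg.Agent.Spor.Cos.Co2Out
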