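import Cfsg.Agent.Lib.Spor.Cos.Co2Out.Syl
import Cfsg.Agent.Lib.Spor.Cos.Co2Out.ClsChk

/-!
An involution centraliser in a group on 4600 points.
-/

set_option autoImplicit false
set_option maxRecDepth 100000
set_option maxHeartbeats 1000000

namespace Cfsg.Agent.Spor.Cos.Co2Out

open Triple

/-- The centraliser. -/
abbrev C : Subgroup H := Subgroup.centralizer ({g 0} : Set H)

theorem cen_comm : (c0W.all fun w => sameW actN ptsN (w ++ [0]) ([0] ++ w)) = true := by decide +kernel

theorem levC : LevR g actN pi c0W 743178240 ptsC := by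
  have k3 : c3.Ok actN c3W (ptsC.getD 3 0) := ⟨by decide +kernel, by decide, by decide +kernel⟩
  have k2 : c2.Ok actN c2W (ptsC.getD 2 0) := ⟨by decide +kernel, by decide, by decide +kernel⟩
  have k1 : c1.Ok actN c1W (ptsC.getD 1 0) := ⟨by decide +kernel, by decide, by decide +kernel⟩
  have k0 : c0.Ok actN c0W (ptsC.getD 0 0) := ⟨by decide +kernel, by decide, by decide +kernel⟩
  exact LevR.step homA (LevR.step homA (LevR.step homA (LevR.step homA LevR.nil k3
      (by decide +kernel) (by decide +kernel) (by decide +kernel)) k2
      (by decide +kernel) (by decide +kernel) (by decide +kernel)) k1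
      (by decide +kernel) (by decide +kernel) (by decide +kernel)) k0
      (by decide +kernel) (by decide +kernel) (by decide +kernel)

theorem cls_facts : Nat.card C * 56925 = Nat.card H ∧
    ∀ x : H, IsConj (g 0) x → x * g 0 = g 0 * x → ∃ j < invW.length, x = ev g (invW.getD j []) := by
  refine ClassList.facts homA pts_lt det g_sq (by decide) cls_ok ?_
  have h := levC.le.trans (Subgroup.card_le_of_le (comm_le cen_comm))
  rw [card_H]
  exact le_trans (by norm_num) (Nat.mul_le_mul_left 56925 h)

theorem card_C : Nat.card C = 743178240 := by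
  have h := cls_facts.1
  rw [card_H] at h
  exact Nat.eq_of_mul_eq_mul_right (by norm_num : 0 < 56925) (h.trans (by norm_num))

theorem val_C : val g c0W = C :=
  Subgroup.eq_of_le_of_card_ge (comm_le cen_comm) (card_C.trans_le levC.le)

theorem invol (x : H) (hx : IsConj (g 0) x) (hcx : x * g 0 = g 0 * x) :
    ∃ j < invW.length, x = ev g (invW.getD j []) := cls_facts.2 x hx hcx

end Cfsg.Agent.Spor.Cos.Co2Out
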