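import Cfsg.Agent.Lib.Spor.Cos.Co2Out.Defs

/-! Data and checks for the automorphisms of a group on 4600 points. -/

set_option autoImplicit false
set_option maxRecDepth 100000
set_option maxHeartbeats 4000000

namespace Cfsg.Agent.Spor.Cos.Co2Out


theorem cls_b0 : allBlock (chkCls) 56925 250 0 = true := by decide +kernel

theorem cls_b1 : allBlock (chkCls) 56925 250 1 = true := by decide +kernel

theorem cls_b2 : allBlock (chkCls) 56925 250 2 = true := by decide +kernel

theorem cls_b3 : allBlock (chkCls) 56925 250 3 = true := by decide +kernel

theorem cls_b4 : allBlock (chkCls) 56925 250 4 = true := by decide +kernel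

theorem cls_b5 : allBlock (chkCls) 56925 250 5 = true := by decide +kernel

theorem cls_b6 : allBlock (chkCls) 56925 250 6 = true := by decide +kernel

theorem cls_b7 : allBlock (chkCls) 56925 250 7 = true := by decide +kernel

theorem cls_b8 : allBlock (chkCls) 56925 250 8 = true := by decide +kernel

theorem cls_b9 : allBlock (chkCls) 56925 250 9 = true := by decide +kernel

theorem cls_b10 : allBlock (chkCls) 56925 250 10 = true := by decide +kernel

theorem cls_b11 : allBlock (chkCls) 56925 250 11 = true := by decide +kernel

theorem cls_b12 : allBlock (chkCls) 56925 250 12 = true := by decide +kernel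

theorem cls_b13 : allBlock (chkCls) 56925 250 13 = true := by decide +kernel

theorem cls_b14 : allBlock (chkCls) 56925 250 14 = true := by decide +kernel

theorem cls_b15 : allBlock (chkCls) 56925 250 15 = true := by decide +kernel

end Cfsg.Agent.Spor.Cos.Co2Out
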