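import Cfsg.Agent.Lib.Spor.Cos.Co2Out.Defs

/-! Data and checks for the automorphisms of a group on 4600 points. -/

set_option autoImplicit false
set_option maxRecDepth 100000
set_option maxHeartbeats 4000000

namespace Cfsg.Agent.Spor.Cos.Co2Out


theorem cls_b176 : allBlock (chkCls) 56925 250 176 = true := by decide +kernel

theorem cls_b177 : allBlock (chkCls) 56925 250 177 = true := by decide +kernel

theorem cls_b178 : allBlock (chkCls) 56925 250 178 = true := by decide +kernel

theorem cls_b179 : allBlock (chkCls) 56925 250 179 = true := by decide +kernel

theorem cls_b180 : allBlock (chkCls) 56925 250 180 = true := by decide +kernel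

theorem cls_b181 : allBlock (chkCls) 56925 250 181 = true := by decide +kernel

theorem cls_b182 : allBlock (chkCls) 56925 250 182 = true := by decide +kernel

theorem cls_b183 : allBlock (chkCls) 56925 250 183 = true := by decide +kernel

theorem cls_b184 : allBlock (chkCls) 56925 250 184 = true := by decide +kernel

theorem cls_b185 : allBlock (chkCls) 56925 250 185 = true := by decide +kernel

theorem cls_b186 : allBlock (chkCls) 56925 250 186 = true := by decide +kernel

theorem cls_b187 : allBlock (chkCls) 56925 250 187 = true := by decide +kernel

theorem cls_b188 : allBlock (chkCls) 56925 250 188 = true := by decide +kernel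

theorem cls_b189 : allBlock (chkCls) 56925 250 189 = true := by decide +kernel

theorem cls_b190 : allBlock (chkCls) 56925 250 190 = true := by decide +kernel

theorem cls_b191 : allBlock (chkCls) 56925 250 191 = true := by decide +kernel

end Cfsg.Agent.Spor.Cos.Co2Out
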