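import Cfsg.Agent.Lib.Spor.Cos.OutClass
import Cfsg.Agent.Lib.Spor.Cos.PcBound
import Cfsg.Agent.Lib.Spor.Cos.OutCentral
import Cfsg.Agent.Lib.Spor.Cos.Co2Out.ActData
import Cfsg.Agent.Lib.Spor.Cos.Co2Out.CenData
import Cfsg.Agent.Lib.Spor.Cos.Co2Out.ClsData
import Cfsg.Agent.Lib.Spor.Cos.Co2Out.SylData

/-! Data and checks for the automorphisms of a group on 4600 points. -/

set_option autoImplicit false
set_option maxRecDepth 100000
set_option maxHeartbeats 4000000

namespace Cfsg.Agent.Spor.Cos.Co2Out

open Triple

/-- A conjugate of the first generator. -/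
noncomputable def chkCls (j : ℕ) : Bool := ClassList.chk actN ptsN clsFuel clsU clsIdx invW 56925 j

/-- The orbit of the Sylow subgroup is closed. -/
noncomputable def chkOrb (j : ℕ) : Bool := s0.chkClosed actN s0W j

/-- The stabiliser of a point in the Sylow subgroup. -/
def spD : Central.ListData := ⟨s1W, spU, spK, spStep, spPath, 128, spOne, spFuel⟩

/-- The word taking the base point of the Sylow subgroup to a fixed point. -/
noncomputable def fixWord (i : ℕ) : List ℕ := s0.tword s0W 64 (s0.pos.at (fixS.getD i 0))

/-- An element above a fixed point is trivial, the first generator, or not central. -/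
noncomputable def chkCen (i j : ℕ) : Bool :=
  (fun w : List ℕ => (w.all fun s => Nat.blt s actN.n) && (agree actN ptsN w [] || sameW actN ptsN w [0] ||
    pcW.any fun v => (v.all fun s => Nat.blt s actN.n) && !(agree actN ptsN (w ++ v) (v ++ w))))
    (fixWord i ++ spD.word j)

/-- A point fixed by the stabiliser in the orbit is listed. -/
noncomputable def chkFixS (p : ℕ) : Bool :=
  !(s0.mem p) || (s1W.any fun v => !(Nat.beq (actN.go v p) p)) || fixS.any (Nat.beq p)

end Cfsg.Agent.Spor.Cos.Co2Out
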