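import Cfsg.Agent.Lib.Spor.Cos.Co2Out.Quot
import Cfsg.Agent.Lib.Classical.SympSimple
import Cfsg.Agent.Lib.Grp.Frattini
import Cfsg.Agent.Lib.Fus.Extraspecial
import Cfsg.Prelude.Def_Solvable
import Cfsg.Prelude.Def_Transfer

/-!
The largest normal 2-subgroup of the centraliser of an involution on 4600 points is extraspecial of order 512.
-/

set_option autoImplicit false
set_option maxRecDepth 100000
set_option maxHeartbeats 1000000

namespace Cfsg.Agent.Spor.Cos.Co2Out

open Triple

open scoped commutatorElement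

/-- A 2-group with centre of order two containing all squares is extraspecial, if it is not abelian. -/
theorem extraspecial_of_squares {Q : Type*} [Group Q] [Finite Q] {n : ℕ} (hcard : Nat.card Q = 2 ^ n) (hn : 2 ≤ n)
    (hZ : Nat.card (Subgroup.center Q) = 2) (hsq : ∀ x : Q, x ^ 2 ∈ Subgroup.center Q) :
    Cfsg.IsExtraspecial 2 Q := by
  haveI : Fact (Nat.Prime 2) := ⟨Nat.prime_two⟩
  have hp : IsPGroup 2 Q := IsPGroup.of_card hcard
  have h1 : commutator Q ≤ Subgroup.center Q := by
    rw [commutator_eq_closure, Subgroup.closure_le]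
    rintro _ ⟨x, y, rfl⟩
    have e : ⁅x, y⁆ = x ^ 2 * (x⁻¹ * y) ^ 2 * (y ^ 2)⁻¹ := by
      rw [commutatorElement_def]
      simp only [sq]
      group
    rw [e]
    exact mul_mem (mul_mem (hsq x) (hsq _)) (inv_mem (hsq y))
  have hne : commutator Q ≠ ⊥ := fun e => by
    have : Subgroup.center Q = ⊤ := eq_top_iff.2 fun x _ => Subgroup.mem_center_iff.2 fun g => by
      have h : ⁅g, x⁆ ∈ commutator Q := Subgroup.commutator_mem_commutator (Subgroup.mem_top _) (Subgroup.mem_top _)
      rw [e, Subgroup.mem_bot] at h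
      exact commutatorElement_eq_one_iff_mul_comm.1 h
    rw [this, Subgroup.card_top, hcard] at hZ
    have : 2 ^ 2 ≤ 2 ^ n := Nat.pow_le_pow_right (by norm_num) hn
    omega
  have hc : commutator Q = Subgroup.center Q := by
    refine Subgroup.eq_of_le_of_card_ge h1 ?_
    rw [hZ]
    have := (Subgroup.one_lt_card_iff_ne_bot _).2 hne
    omega
  refine ⟨⟨hp, le_antisymm ?_ ?_, hc⟩, hZ⟩
  · exact Grp.frattini_le_of_elementary Nat.prime_two h1 hsq
  · exact hc ▸ Grp.pGroup_commutator_le_frattini hp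

theorem simple_G0 : IsSimpleGroup Classical.SpSix.G0 := by
  have h : IsSimpleGroup (Cfsg.PSp 3 (ZMod 2)) :=
    Classical.PSp_isSimpleGroup (by norm_num) (Classical.symp_perfect_of_card (Or.inl le_rfl))
  let e : Cfsg.PSp 3 (ZMod 2) ≃* Classical.SpSix.G0 :=
    (QuotientGroup.quotientMulEquivOfEq Classical.SpSix.center_eq_bot).trans QuotientGroup.quotientBot
  exact e.isSimpleGroup_congr.1 h

theorem pCore_eq : Cfsg.pCore 2 C = rho.ker := by
  haveI : Fact (Nat.Prime 2) := ⟨Nat.prime_two⟩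
  refine le_antisymm (sSup_le ?_) (le_sSup ⟨inferInstance, IsPGroup.of_card (n := 9) (by rw [card_ker]; norm_num)⟩)
  rintro N ⟨hN, hp⟩
  have hM : (N.map rho).Normal := hN.map rho rho_surjective
  rcases (simple_G0.eq_bot_or_eq_top_of_normal _ hM) with h | h
  · intro x hx
    have : rho x ∈ N.map rho := Subgroup.mem_map_of_mem rho hx
    rw [h, Subgroup.mem_bot] at this
    exact this
  · exfalso
    obtain ⟨k, hk⟩ := IsPGroup.iff_card.1 (hp.map rho)
    rw [h, Subgroup.card_top, Classical.SpSix.card_G0] at hk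
    have h7 : 7 ∣ 2 ^ k := hk ▸ (by norm_num : 7 ∣ 1451520)
    exact absurd ((Nat.prime_dvd_prime_iff_eq (by norm_num) Nat.prime_two).1
      ((by norm_num : Nat.Prime 7).dvd_of_dvd_pow h7)) (by norm_num)

/-- The kernel in the whole group. -/
noncomputable abbrev Q0 : Subgroup H := val g qW

theorem q_parts : (∀ i < 512, Central.chkList actN ptsN qD i = true) ∧
    (∀ i < 512, Central.chkCentral actN ptsN qD i = true) ∧
    ∀ i < 512, (∀ s ∈ qD.word i, s < actN.n) ∧
      (agree actN ptsN (qD.word i ++ qD.word i) [] = true ∨ sameW actN ptsN (qD.word i ++ qD.word i) [0] = true) := by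
  refine ⟨fun i hi => ?_, fun i hi => ?_, fun i hi => ?_⟩ <;>
    have h := q_ok i hi <;>
    simp only [chkQ, Bool.and_eq_true, Bool.or_eq_true, List.all_eq_true] at h
  · exact h.1.1
  · exact h.1.2
  · exact ⟨fun s hs => Nat.le_of_ble_eq_true (h.2.1 s hs), h.2.2⟩

theorem q_facts : qOne < 512 ∧ sameW actN ptsN (qD.word qOne) [] = true ∧ qZ < 512 ∧
    sameW actN ptsN (qD.word qZ) [0] = true := by decide +kernel

theorem q_listed : (∀ y ∈ Q0, ∃ i < 512, ev g (qD.word i) = y) ∧ Nat.card Q0 = 512 :=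
  Central.listed homA pts_lt det (D := qD) q_parts.1 q_facts.1 q_facts.2.1

theorem Q0_le : Q0 ≤ C := (Subgroup.closure_le _).2 fun _ ⟨_, hw, e⟩ => e ▸ (ker_comm hw).1

theorem z_mem : g 0 ∈ Q0 := by
  have h := q_parts.1 qZ q_facts.2.2.1
  rw [Central.chkList, Bool.and_eq_true] at h
  have e := h.2
  simp only [Bool.and_eq_true, List.all_eq_true] at e
  rw [← ev_zero, ← eq_of_same q_facts.2.2.2, eq_of_same e.2, ev_flatten, List.map_map]
  refine list_prod_mem fun y hy => ?_
  obtain ⟨k, hk, rfl⟩ := List.mem_map.1 hy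
  have hk' : k < qW.length := Nat.le_of_ble_eq_true (e.1 k hk)
  refine mem_val (w := qW.getD k []) ?_
  rw [List.getD_eq_getElem _ _ hk']
  exact List.getElem_mem _

theorem ker_eq : Q0.subgroupOf C = rho.ker := by
  refine Subgroup.eq_of_le_of_card_ge ?_ ?_
  · have hle : Q0 ≤ rho.ker.map C.subtype := by
      refine (Subgroup.closure_le _).2 ?_
      rintro _ ⟨w, hw, rfl⟩
      exact ⟨⟨_, (ker_comm hw).1⟩, (ker_comm hw).2 _, rfl⟩
    intro x hx
    obtain ⟨y, hy, e⟩ := hle (Subgroup.mem_subgroupOf.1 hx)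
    exact Subtype.ext e ▸ hy
  · rw [card_ker, Nat.card_congr (Subgroup.subgroupOfEquivOfLe Q0_le).toEquiv, q_listed.2]

theorem center_Q0 {x : Q0} : x ∈ Subgroup.center Q0 ↔ (x : H) = 1 ∨ (x : H) = g 0 := by
  constructor
  · intro hx
    obtain ⟨i, hi, e⟩ := q_listed.1 x x.2
    have hh := q_parts.2.1 i hi
    simp only [Central.chkCentral, Bool.or_eq_true, List.any_eq_true, Bool.and_eq_true, Bool.not_eq_true',
      List.all_eq_true] at hh
    rcases hh with (hh | hh) | ⟨v, hv, ⟨hwl, hvl⟩, hh⟩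
    · refine Or.inl ?_
      rw [← e, Nat.eq_of_beq_eq_true hh]
      exact eq_of_same q_facts.2.1
    · exact Or.inr (by rw [← e, ← ev_zero]; exact eq_of_same hh)
    · exfalso
      have hvQ : ev g v ∈ Q0 := mem_val hv
      have hwl' : ∀ s ∈ qD.word i, s < actN.n := fun s hs => Nat.le_of_ble_eq_true (hwl s hs)
      have hvl' : ∀ s ∈ v, s < actN.n := fun s hs => Nat.le_of_ble_eq_true (hvl s hs)
      refine Central.ne_of_agree (g := g) homA pts_lt (fun s hs => (List.mem_append.1 hs).elim (hwl' s) (hvl' s))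
        (fun s hs => (List.mem_append.1 hs).elim (hvl' s) (hwl' s)) hh ?_
      rw [ev_append g (qD.word i) v, ev_append g v (qD.word i), e]
      exact congrArg Subtype.val (Subgroup.mem_center_iff.1 hx ⟨_, hvQ⟩).symm
  · intro hx
    refine Subgroup.mem_center_iff.2 fun y => Subtype.ext ?_
    show (y : H) * x = x * y
    rcases hx with h | h <;> rw [h]
    · group
    · exact Subgroup.mem_centralizer_singleton_iff.1 (Q0_le y.2)

theorem card_center_Q0 : Nat.card (Subgroup.center Q0) = 2 := by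
  have e : (Subgroup.center Q0 : Set Q0) = {1, ⟨g 0, z_mem⟩} := Set.ext fun x => by
    rw [SetLike.mem_coe, center_Q0, Set.mem_insert_iff, Set.mem_singleton_iff]
    constructor
    · rintro (h | h)
      exacts [Or.inl (Subtype.ext h), Or.inr (Subtype.ext h)]
    · rintro (h | h) <;> rw [h]
      exacts [Or.inl rfl, Or.inr rfl]
  have hne : (1 : Q0) ≠ ⟨g 0, z_mem⟩ := fun h => g_ne (s := 0) (by norm_num) (congrArg Subtype.val h).symm
  rw [← SetLike.coe_sort_coe, Nat.card_coe_set_eq, e, Set.ncard_pair hne]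

theorem square_Q0 (x : Q0) : x ^ 2 ∈ Subgroup.center Q0 := by
  obtain ⟨i, hi, e⟩ := q_listed.1 x x.2
  obtain ⟨hl, h⟩ := q_parts.2.2 i hi
  refine center_Q0.2 ?_
  rw [SubgroupClass.coe_pow, sq, ← e, ← ev_append]
  rcases h with h | h
  · exact Or.inl (ev_eq_of_agree homA det (v := qD.word i ++ qD.word i) (w := [])
      (by simp only [Act.lettersOk, List.all_cons, List.all_nil, Bool.and_true, List.all_eq_true]
          exact fun s hs => Nat.ble_eq_true_of_le ((List.mem_append.1 hs).elim (hl s) (hl s))) rfl h)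
  · exact Or.inr (by rw [← ev_zero]; exact eq_of_same h)

theorem extraspecial : Cfsg.IsExtraspecial 2 (Cfsg.pCore 2 C) := by
  let e : Q0 ≃* ↥(Cfsg.pCore 2 C) :=
    (Subgroup.subgroupOfEquivOfLe Q0_le).symm.trans (MulEquiv.subgroupCongr (ker_eq.trans pCore_eq.symm))
  refine extraspecial_of_squares (n := 9)
    (by rw [← Nat.card_congr e.toEquiv, q_listed.2]; norm_num) (by norm_num)
    ((Nat.card_congr (Subgroup.centerCongr e).toEquiv).symm.trans card_center_Q0) fun x => ?_
  obtain ⟨y, rfl⟩ := e.surjective x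
  rw [← map_pow, Subgroup.mem_center_iff]
  intro u
  obtain ⟨v, rfl⟩ := e.surjective u
  rw [← map_mul, ← map_mul, Subgroup.mem_center_iff.1 (square_Q0 y) v]

/-- The centraliser modulo its largest normal 2-subgroup. -/
theorem quot_equiv : Nonempty (C ⧸ Cfsg.pCore 2 C ≃* Classical.SpSix.G0) :=
  ⟨(QuotientGroup.quotientMulEquivOfEq pCore_eq).trans (QuotientGroup.quotientKerEquivOfSurjective rho rho_surjective)⟩

theorem card_pCore : Nat.card (Cfsg.pCore 2 C) = 2 ^ 9 := by
  rw [pCore_eq, card_ker]; norm_num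

theorem z_order : orderOf (g 0) = 2 :=
  orderOf_eq_prime (hp := ⟨Nat.prime_two⟩) (by rw [sq, g_sq]) (g_ne (by norm_num))

/-- The facts about the centraliser, in an isomorphic group. -/
theorem transfer {G : Type*} [Group G] (e : G ≃* H) :
    ∃ t : G, orderOf t = 2 ∧ Cfsg.IsExtraspecial 2 (Cfsg.pCore 2 ↥(Subgroup.centralizer ({t} : Set G))) ∧
      Nat.card (Cfsg.pCore 2 ↥(Subgroup.centralizer ({t} : Set G))) = 2 ^ 9 ∧
      Nonempty (↥(Subgroup.centralizer ({t} : Set G)) ⧸ Cfsg.pCore 2 ↥(Subgroup.centralizer ({t} : Set G)) ≃*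
        Classical.SpSix.G0) := by
  set t := e.symm (g 0) with ht
  let f : C ≃* ↥(Subgroup.centralizer ({t} : Set G)) :=
    (e.symm.subgroupMap C).trans (MulEquiv.subgroupCongr (by
      ext x
      rw [Subgroup.map_equiv_eq_comap_symm, Subgroup.mem_comap, Subgroup.mem_centralizer_singleton_iff,
        Subgroup.mem_centralizer_singleton_iff]
      exact ⟨fun h => e.injective (by simpa [ht] using h), fun h => by simpa [ht] using congrArg e h⟩))
  have hmap : (Cfsg.pCore 2 C).map f.toMonoidHom = Cfsg.pCore 2 ↥(Subgroup.centralizer ({t} : Set G)) := by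
    refine le_antisymm (le_sSup ⟨?_, ?_⟩) (sSup_le ?_)
    · exact Subgroup.Normal.map (pCore_eq ▸ inferInstance) _ f.surjective
    · exact (IsPGroup.of_card card_pCore).map _
    · rintro N ⟨hN, hp⟩
      have h1 : N.map f.symm.toMonoidHom ≤ Cfsg.pCore 2 C :=
        le_sSup ⟨hN.map _ f.symm.surjective, hp.map _⟩
      intro x hx
      exact ⟨f.symm x, h1 ⟨x, hx, rfl⟩, f.apply_symm_apply x⟩
  let k : ↥(Cfsg.pCore 2 C) ≃* ↥(Cfsg.pCore 2 ↥(Subgroup.centralizer ({t} : Set G))) :=
    (f.subgroupMap _).trans (MulEquiv.subgroupCongr hmap)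
  have : Finite G := Finite.of_equiv _ e.symm.toEquiv
  refine ⟨t, by rw [ht, MulEquiv.orderOf_eq, z_order], ?_, ?_, ?_⟩
  · refine extraspecial_of_squares (n := 9)
      (by rw [← Nat.card_congr k.toEquiv, card_pCore]) (by norm_num)
      ((Nat.card_congr (Subgroup.centerCongr k).toEquiv).symm.trans extraspecial.2) fun x => ?_
    obtain ⟨y, rfl⟩ := k.surjective x
    rw [← map_pow, Subgroup.mem_center_iff]
    intro u
    obtain ⟨v, rfl⟩ := k.surjective u
    rw [← map_mul, ← map_mul, Subgroup.mem_center_iff.1 ((Fus.extraspecial_two_facts extraspecial).1 y) v]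
  · rw [← Nat.card_congr k.toEquiv, card_pCore]
  · have hN : (Cfsg.pCore 2 C).Normal := pCore_eq ▸ inferInstance
    obtain ⟨q⟩ := quot_equiv
    have hN' : (Cfsg.pCore 2 ↥(Subgroup.centralizer ({t} : Set G))).Normal := hmap ▸ hN.map _ f.surjective
    exact ⟨(QuotientGroup.congr _ _ f hmap).symm.trans q⟩

end Cfsg.Agent.Spor.Cos.Co2Out
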