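import Cfsg.Agent.Lib.Spor.Cos.Co2Out.LabDefs

/-! Data and checks for the centraliser of an involution on 4600 points. -/

set_option autoImplicit false
set_option maxRecDepth 100000
set_option maxHeartbeats 4000000

namespace Cfsg.Agent.Spor.Cos.Co2Out

theorem fix56_ok : ∀ p < 4600, chkFix56 p = true := by decide +kernel

theorem mat_len : c0W.length = matW.length := by decide +kernel

theorem moves_ok : ∀ t < c0W.length, chkMoves (c0W.getD t []) (matW.getD t []) = true := by decide +kernel

theorem units_ok : ∀ i < 6, chkUnits i = true := by decide +kernel

theorem lab_lt : ∀ p ∈ fix56, lab p < 64 := by decide +kernel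

theorem lift_ok : ∀ s < 7, chkLift s = true := by decide +kernel

theorem ker_ok : ∀ w ∈ qW, chkKer w = true := by decide +kernel

theorem q_ok : ∀ i < 512, chkQ i = true := by decide +kernel

end Cfsg.Agent.Spor.Cos.Co2Out
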