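import Cfsg.Agent.Lib.Spor.Cos.OutCentral
import Cfsg.Agent.Lib.Classical.SpSix.Data
import Cfsg.Agent.Lib.Spor.Cos.Co2Out.ActData
import Cfsg.Agent.Lib.Spor.Cos.Co2Out.CenData
import Cfsg.Agent.Lib.Spor.Cos.Co2Out.LabData

/-! Data and checks for the centraliser of an involution on 4600 points. -/

set_option autoImplicit false
set_option maxRecDepth 100000
set_option maxHeartbeats 4000000

namespace Cfsg.Agent.Spor.Cos.Co2Out

open Triple

/-- The label of a fixed point. -/
noncomputable def lab (p : ℕ) : ℕ := labT.at p

/-- A fixed point is listed. -/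
noncomputable def chkFix56 (p : ℕ) : Bool := !(Nat.beq (actN.go [0] p) p) || fix56.any (Nat.beq p)

/-- A word moves the differences of labels by a word in the transvections. -/
noncomputable def chkMoves (w aw : List ℕ) : Bool :=
  (w.all fun s => Nat.blt s actN.n) && (aw.all fun s => Nat.blt s 7) &&
    fix56.all fun p => force (lab p) fun a => force (lab (actN.go w p)) fun a' => fix56.all fun q =>
      force (lab q) fun b => force (lab (actN.go w q)) fun b' =>
        Nat.blt a 64 && Nat.blt b 64 && Nat.blt a' 64 && Nat.blt b' 64 &&
          Nat.beq (Classical.SpSix.actA.go aw (a ^^^ b)) (a' ^^^ b')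

/-- Every unit vector is a difference of labels. -/
noncomputable def chkUnits (i : ℕ) : Bool :=
  fix56.any fun p => fix56.any fun q => Nat.beq (lab p ^^^ lab q) (2 ^ i)

/-- A transvection is lifted. -/
noncomputable def chkLift (s : ℕ) : Bool :=
  (fun L : List ℕ => (L.all fun t => Nat.blt t matW.length) && [1, 2, 4, 8, 16, 32].all fun b =>
    Nat.beq (Classical.SpSix.actA.go (L.map fun t => matW.getD t []).flatten b) (Classical.SpSix.actA.im b s))
    (liftW.getD s [])

/-- The kernel. -/
def qD : Central.ListData := ⟨qW, qU, qK, qStep, qPath, 512, qOne, qFuel⟩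

/-- A word in the kernel commutes with the first generator and fixes its fixed points. -/
noncomputable def chkKer (w : List ℕ) : Bool :=
  sameW actN ptsN (w ++ [0]) ([0] ++ w) && fix56.all fun p => Nat.beq (actN.go w p) p

/-- An element of the kernel: listed, central only if trivial or the first generator, with square of that kind. -/
noncomputable def chkQ (i : ℕ) : Bool :=
  Central.chkList actN ptsN qD i && Central.chkCentral actN ptsN qD i &&
    (fun w : List ℕ => (w.all fun s => Nat.blt s actN.n) &&
      (agree actN ptsN (w ++ w) [] || sameW actN ptsN (w ++ w) [0])) (qD.word i)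

end Cfsg.Agent.Spor.Cos.Co2Out
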