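import Cfsg.Agent.Lib.Spor.Cos.Co2Out.TreeDefs

/-! Data and checks for the automorphisms of a group on 4600 points. -/

set_option autoImplicit false
set_option maxRecDepth 100000
set_option maxHeartbeats 4000000

namespace Cfsg.Agent.Spor.Cos.Co2Out


theorem tree_b90 : allBlock (chkTree) 22690 150 90 = true := by decide +kernel

theorem tree_b91 : allBlock (chkTree) 22690 150 91 = true := by decide +kernel

theorem tree_b92 : allBlock (chkTree) 22690 150 92 = true := by decide +kernel

theorem tree_b93 : allBlock (chkTree) 22690 150 93 = true := by decide +kernel

theorem tree_b94 : allBlock (chkTree) 22690 150 94 = true := by decide +kernel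

theorem tree_b95 : allBlock (chkTree) 22690 150 95 = true := by decide +kernel

end Cfsg.Agent.Spor.Cos.Co2Out
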