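import Cfsg.Agent.Lib.Spor.Cos.Co2Out.TreeDefs

/-! Data and checks for the automorphisms of a group on 4600 points. -/

set_option autoImplicit false
set_option maxRecDepth 100000
set_option maxHeartbeats 4000000

namespace Cfsg.Agent.Spor.Cos.Co2Out


theorem tree_b24 : allBlock (chkTree) 22690 150 24 = true := by decide +kernel

theorem tree_b25 : allBlock (chkTree) 22690 150 25 = true := by decide +kernel

theorem tree_b26 : allBlock (chkTree) 22690 150 26 = true := by decide +kernel

theorem tree_b27 : allBlock (chkTree) 22690 150 27 = true := by decide +kernel

theorem tree_b28 : allBlock (chkTree) 22690 150 28 = true := by decide +kernel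

theorem tree_b29 : allBlock (chkTree) 22690 150 29 = true := by decide +kernel

end Cfsg.Agent.Spor.Cos.Co2Out
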