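import Cfsg.Agent.Lib.Spor.Cos.Co2Out.TreeChk0
import Cfsg.Agent.Lib.Spor.Cos.Co2Out.TreeChk1
import Cfsg.Agent.Lib.Spor.Cos.Co2Out.TreeChk2
import Cfsg.Agent.Lib.Spor.Cos.Co2Out.TreeChk3
import Cfsg.Agent.Lib.Spor.Cos.Co2Out.TreeChk4
import Cfsg.Agent.Lib.Spor.Cos.Co2Out.TreeChk5
import Cfsg.Agent.Lib.Spor.Cos.Co2Out.TreeChk6
import Cfsg.Agent.Lib.Spor.Cos.Co2Out.TreeChk7
import Cfsg.Agent.Lib.Spor.Cos.Co2Out.TreeChk8
import Cfsg.Agent.Lib.Spor.Cos.Co2Out.TreeChk9
import Cfsg.Agent.Lib.Spor.Cos.Co2Out.TreeChk10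
import Cfsg.Agent.Lib.Spor.Cos.Co2Out.TreeChk11
import Cfsg.Agent.Lib.Spor.Cos.Co2Out.TreeChk12
import Cfsg.Agent.Lib.Spor.Cos.Co2Out.TreeChk13
import Cfsg.Agent.Lib.Spor.Cos.Co2Out.TreeChk14
import Cfsg.Agent.Lib.Spor.Cos.Co2Out.TreeChk15
import Cfsg.Agent.Lib.Spor.Cos.Co2Out.TreeChk16
import Cfsg.Agent.Lib.Spor.Cos.Co2Out.TreeChk17
import Cfsg.Agent.Lib.Spor.Cos.Co2Out.TreeChk18
import Cfsg.Agent.Lib.Spor.Cos.Co2Out.TreeChk19
import Cfsg.Agent.Lib.Spor.Cos.Co2Out.TreeChk20
import Cfsg.Agent.Lib.Spor.Cos.Co2Out.TreeChk21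
import Cfsg.Agent.Lib.Spor.Cos.Co2Out.TreeChk22
import Cfsg.Agent.Lib.Spor.Cos.Co2Out.TreeChk23
import Cfsg.Agent.Lib.Spor.Cos.Co2Out.TreeChk24
import Cfsg.Agent.Lib.Spor.Cos.Co2Out.TreeChk25

/-! Data and checks for the automorphisms of a group on 4600 points. -/

set_option autoImplicit false
set_option maxRecDepth 100000
set_option maxHeartbeats 4000000

namespace Cfsg.Agent.Spor.Cos.Co2Out


theorem tree_ok : ∀ i < 22690, (chkTree) i = true := by
  refine of_blocks (size := 150) (b := 152) (by decide) (by decide) fun j hj => ?_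
  interval_cases j
  · exact tree_b0
  · exact tree_b1
  · exact tree_b2
  · exact tree_b3
  · exact tree_b4
  · exact tree_b5
  · exact tree_b6
  · exact tree_b7
  · exact tree_b8
  · exact tree_b9
  · exact tree_b10
  · exact tree_b11
  · exact tree_b12
  · exact tree_b13
  · exact tree_b14
  · exact tree_b15
  · exact tree_b16
  · exact tree_b17
  · exact tree_b18
  · exact tree_b19
  · exact tree_b20
  · exact tree_b21
  · exact tree_b22
  · exact tree_b23
  · exact tree_b24
  · exact tree_b25
  · exact tree_b26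
  · exact tree_b27
  · exact tree_b28
  · exact tree_b29
  · exact tree_b30
  · exact tree_b31
  · exact tree_b32
  · exact tree_b33
  · exact tree_b34
  · exact tree_b35
  · exact tree_b36
  · exact tree_b37
  · exact tree_b38
  · exact tree_b39
  · exact tree_b40
  · exact tree_b41
  · exact tree_b42
  · exact tree_b43
  · exact tree_b44
  · exact tree_b45
  · exact tree_b46
  · exact tree_b47
  · exact tree_b48
  · exact tree_b49
  · exact tree_b50
  · exact tree_b51
  · exact tree_b52
  · exact tree_b53
  · exact tree_b54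
  · exact tree_b55
  · exact tree_b56
  · exact tree_b57
  · exact tree_b58
  · exact tree_b59
  · exact tree_b60
  · exact tree_b61
  · exact tree_b62
  · exact tree_b63
  · exact tree_b64
  · exact tree_b65
  · exact tree_b66
  · exact tree_b67
  · exact tree_b68
  · exact tree_b69
  · exact tree_b70
  · exact tree_b71
  · exact tree_b72
  · exact tree_b73
  · exact tree_b74
  · exact tree_b75
  · exact tree_b76
  · exact tree_b77
  · exact tree_b78
  · exact tree_b79
  · exact tree_b80
  · exact tree_b81
  · exact tree_b82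
  · exact tree_b83
  · exact tree_b84
  · exact tree_b85
  · exact tree_b86
  · exact tree_b87
  · exact tree_b88
  · exact tree_b89
  · exact tree_b90
  · exact tree_b91
  · exact tree_b92
  · exact tree_b93
  · exact tree_b94
  · exact tree_b95
  · exact tree_b96
  · exact tree_b97
  · exact tree_b98
  · exact tree_b99
  · exact tree_b100
  · exact tree_b101
  · exact tree_b102
  · exact tree_b103
  · exact tree_b104
  · exact tree_b105
  · exact tree_b106
  · exact tree_b107
  · exact tree_b108
  · exact tree_b109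
  · exact tree_b110
  · exact tree_b111
  · exact tree_b112
  · exact tree_b113
  · exact tree_b114
  · exact tree_b115
  · exact tree_b116
  · exact tree_b117
  · exact tree_b118
  · exact tree_b119
  · exact tree_b120
  · exact tree_b121
  · exact tree_b122
  · exact tree_b123
  · exact tree_b124
  · exact tree_b125
  · exact tree_b126
  · exact tree_b127
  · exact tree_b128
  · exact tree_b129
  · exact tree_b130
  · exact tree_b131
  · exact tree_b132
  · exact tree_b133
  · exact tree_b134
  · exact tree_b135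
  · exact tree_b136
  · exact tree_b137
  · exact tree_b138
  · exact tree_b139
  · exact tree_b140
  · exact tree_b141
  · exact tree_b142
  · exact tree_b143
  · exact tree_b144
  · exact tree_b145
  · exact tree_b146
  · exact tree_b147
  · exact tree_b148
  · exact tree_b149
  · exact tree_b150
  · exact tree_b151

end Cfsg.Agent.Spor.Cos.Co2Out
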