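import Cfsg.Agent.Lib.Spor.Cos.Co2Out.OrbChk0

/-! Data and checks for the automorphisms of a group on 4600 points. -/

set_option autoImplicit false
set_option maxRecDepth 100000
set_option maxHeartbeats 4000000

namespace Cfsg.Agent.Spor.Cos.Co2Out


theorem orb_ok : ∀ i < 2048, (chkOrb) i = true := by
  refine of_blocks (size := 256) (b := 8) (by decide) (by decide) fun j hj => ?_
  interval_cases j
  · exact orb_b0
  · exact orb_b1
  · exact orb_b2
  · exact orb_b3
  · exact orb_b4
  · exact orb_b5
  · exact orb_b6
  · exact orb_b7

end Cfsg.Agent.Spor.Cos.Co2Out
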