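import Cfsg.Agent.Lib.Spor.Cos.Co2Out.Defs

/-! Data and checks for the automorphisms of a group on 4600 points. -/

set_option autoImplicit false
set_option maxRecDepth 100000
set_option maxHeartbeats 4000000

namespace Cfsg.Agent.Spor.Cos.Co2Out


theorem orb_b0 : allBlock (chkOrb) 2048 256 0 = true := by decide +kernel

theorem orb_b1 : allBlock (chkOrb) 2048 256 1 = true := by decide +kernel

theorem orb_b2 : allBlock (chkOrb) 2048 256 2 = true := by decide +kernel

theorem orb_b3 : allBlock (chkOrb) 2048 256 3 = true := by decide +kernel

theorem orb_b4 : allBlock (chkOrb) 2048 256 4 = true := by decide +kernel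

theorem orb_b5 : allBlock (chkOrb) 2048 256 5 = true := by decide +kernel

theorem orb_b6 : allBlock (chkOrb) 2048 256 6 = true := by decide +kernel

theorem orb_b7 : allBlock (chkOrb) 2048 256 7 = true := by decide +kernel

end Cfsg.Agent.Spor.Cos.Co2Out
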