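import Cfsg.Agent.Lib.Spor.Cos.Co2Out.Cent
import Cfsg.Agent.Lib.Spor.Cos.Co2Out.LabChk
import Cfsg.Agent.Lib.Classical.SpSix.Two

/-!
The centraliser of an involution on 4600 points acts on labels of its fixed points as a symplectic group.
-/

set_option autoImplicit false
set_option maxRecDepth 100000
set_option maxHeartbeats 1000000

namespace Cfsg.Agent.Spor.Cos.Co2Out

open Triple Matrix Classical.SpSix

theorem vec_xor : ∀ a < 64, ∀ b < 64, vec (a ^^^ b) = vec a + vec b := by decide +kernel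

theorem xor_lt : ∀ a < 64, ∀ b < 64, a ^^^ b < 64 := by decide +kernel

theorem fix56_mem {p : Fin actN.N} (h : pi (g 0) p = p) : (p : ℕ) ∈ fix56 := by
  have e : actN.go [0] p = p := by
    rw [← homA.apply_ev [0] (show ∀ s ∈ [0], s < actN.n by decide) p, ev_zero, h]
  have := fix56_ok p p.2
  simp only [chkFix56, e, Nat.beq_refl, Bool.not_true, Bool.false_or, List.any_eq_true] at this
  obtain ⟨q, hq, e'⟩ := this
  rwa [Nat.eq_of_beq_eq_true e']

theorem fix56_fix : ∀ p ∈ fix56, p < 4600 ∧ actN.go [0] p = p := by decide +kernel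

theorem fix_of_mem {p : ℕ} (h : p ∈ fix56) : pi (g 0) ⟨p, (fix56_fix p h).1⟩ = ⟨p, (fix56_fix p h).1⟩ := Fin.ext (by
  rw [← ev_zero, homA.apply_ev [0] (show ∀ s ∈ [0], s < actN.n by decide)]
  exact (fix56_fix p h).2)

/-- The difference of the labels of two points. -/
noncomputable def diff (p q : Fin actN.N) : V := vec (lab p) + vec (lab q)

/-- A symplectic matrix moves the differences of labels as an element does. -/
def Moves (c : H) (A : G0) : Prop :=
  ∀ p q : Fin actN.N, pi (g 0) p = p → pi (g 0) q = q →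
    diff (pi c p) (pi c q) = (A : Matrix (Fin 3 ⊕ Fin 3) (Fin 3 ⊕ Fin 3) (ZMod 2)) *ᵥ diff p q

theorem mulVec_vec (aw : List ℕ) (hl : ∀ s ∈ aw, s < 7) {n : ℕ} (hn : n < 64) :
    ((ev gT aw : G0) : Matrix (Fin 3 ⊕ Fin 3) (Fin 3 ⊕ Fin 3) (ZMod 2)) *ᵥ vec n = vec (actA.go aw n) := by
  have h := piA_val (ev gT aw) ⟨n, hn⟩
  rw [Classical.SpSix.homA.apply_ev aw hl] at h
  rw [h, vec_num]

theorem moves_of_chk {w aw : List ℕ} (h : chkMoves w aw = true) : Moves (ev g w) (ev gT aw) := by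
  simp only [chkMoves, force_eq, Bool.and_eq_true, List.all_eq_true] at h
  obtain ⟨⟨hw, haw⟩, h⟩ := h
  have hw' : ∀ s ∈ w, s < actN.n := fun s hs => Nat.le_of_ble_eq_true (hw s hs)
  have haw' : ∀ s ∈ aw, s < 7 := fun s hs => Nat.le_of_ble_eq_true (haw s hs)
  intro p q hp hq
  obtain ⟨⟨⟨⟨ha, hb⟩, ha'⟩, hb'⟩, e⟩ := h p (fix56_mem hp) q (fix56_mem hq)
  replace ha := Nat.le_of_ble_eq_true ha
  replace hb := Nat.le_of_ble_eq_true hb
  replace ha' := Nat.le_of_ble_eq_true ha'
  replace hb' := Nat.le_of_ble_eq_true hb'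
  rw [diff, diff, homA.apply_ev w hw' p, homA.apply_ev w hw' q, ← vec_xor _ ha' _ hb', ← vec_xor _ ha _ hb,
    mulVec_vec aw haw' (xor_lt _ ha _ hb), Nat.eq_of_beq_eq_true e]

theorem Moves.mul {a b : H} {A B : G0} (ha : Moves a A) (hb : Moves b B) (hbC : b ∈ C) : Moves (a * b) (A * B) := by
  intro p q hp hq
  have hfix : ∀ r : Fin actN.N, pi (g 0) r = r → pi (g 0) (pi b r) = pi b r := fun r hr => by
    rw [← Equiv.Perm.mul_apply, ← map_mul, ← Subgroup.mem_centralizer_singleton_iff.1 hbC, map_mul,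
      Equiv.Perm.mul_apply, hr]
  rw [map_mul, Equiv.Perm.mul_apply, Equiv.Perm.mul_apply, ha _ _ (hfix p hp) (hfix q hq), hb p q hp hq,
    Matrix.mulVec_mulVec, ← Submonoid.coe_mul]

theorem Moves.unique {c : H} {A B : G0} (ha : Moves c A) (hb : Moves c B) : A = B := by
  refine (inv_mul_eq_one.1 (Classical.SpSix.det (A⁻¹ * B) fun r hr => ?_))
  have hi : ∃ i < 6, (r : ℕ) = 2 ^ i := by
    simp only [List.mem_cons, List.not_mem_nil, or_false] at hr
    rcases hr with h | h | h | h | h | h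
    exacts [⟨0, by norm_num, h⟩, ⟨1, by norm_num, h⟩, ⟨2, by norm_num, h⟩, ⟨3, by norm_num, h⟩, ⟨4, by norm_num, h⟩,
      ⟨5, by norm_num, h⟩]
  obtain ⟨i, hi, e⟩ := hi
  have hu := units_ok i hi
  simp only [chkUnits, List.any_eq_true] at hu
  obtain ⟨p, hp, q, hq, hpq⟩ := hu
  have hlt := lab_lt
  have hd : diff ⟨p, (fix56_fix p hp).1⟩ ⟨q, (fix56_fix q hq).1⟩ = vec r := by
    rw [diff, ← vec_xor _ (hlt p hp) _ (hlt q hq), Nat.eq_of_beq_eq_true hpq, e]
  have h1 := (ha _ _ (fix_of_mem hp) (fix_of_mem hq)).symm.trans (hb _ _ (fix_of_mem hp) (fix_of_mem hq))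
  rw [hd] at h1
  have h2 : piA A r = piA B r := Fin.ext (by rw [piA_val, piA_val, h1])
  rw [map_mul, map_inv, Equiv.Perm.mul_apply, ← h2, Equiv.Perm.inv_def, Equiv.symm_apply_apply]

theorem exists_moves {c : H} (hc : c ∈ C) : ∃ A, Moves c A := by
  rw [← val_C] at hc
  suffices ∃ A, c ∈ C ∧ Moves c A from this.imp fun _ h => h.2
  replace hc : c ∈ Subgroup.closure {x | ∃ w ∈ c0W, ev g w = x} := hc
  rw [← Subgroup.mem_toSubmonoid, Subgroup.closure_toSubmonoid_of_finite] at hc
  induction hc using Submonoid.closure_induction with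
  | mem x hx =>
    obtain ⟨w, hw, rfl⟩ := hx
    obtain ⟨t, ht, rfl⟩ := List.mem_iff_getElem.1 hw
    refine ⟨ev gT (matW.getD t []), comm_le cen_comm (mem_val hw), ?_⟩
    have h := moves_ok t ht
    rw [List.getD_eq_getElem _ _ ht] at h
    exact moves_of_chk h
  | one => exact ⟨1, one_mem _, fun p q _ _ => by simp⟩
  | mul a b _ _ ha hb =>
    obtain ⟨A, haC, hA⟩ := ha
    obtain ⟨B, hbC, hB⟩ := hb
    exact ⟨A * B, mul_mem haC hbC, hA.mul hB hbC⟩

/-- The matrix of an element of the centraliser. -/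
noncomputable def rhoF (c : C) : G0 := (exists_moves c.2).choose

theorem rhoF_spec (c : C) : Moves c (rhoF c) := (exists_moves c.2).choose_spec

/-- The action on labels. -/
noncomputable def rho : C →* G0 :=
  MonoidHom.mk' rhoF fun a b => (rhoF_spec (a * b)).unique ((rhoF_spec a).mul (rhoF_spec b) b.2)

theorem rho_surjective : Function.Surjective rho := by
  rw [← MonoidHom.range_eq_top, ← top_le_iff, ← Classical.SpSix.gen, Subgroup.closure_le]
  rintro _ ⟨s, hs, rfl⟩
  have h := lift_ok s hs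
  simp only [chkLift, Bool.and_eq_true, List.all_eq_true] at h
  obtain ⟨hL, hpt⟩ := h
  set L := liftW.getD s []
  have hmem : ∀ t ∈ L, t < c0W.length := fun t ht => mat_len.symm ▸ Nat.le_of_ble_eq_true (hL t ht)
  have hl : ∀ u ∈ (L.map fun t => matW.getD t []).flatten, u < 7 := by
    intro u hu
    obtain ⟨_, hw, hu⟩ := List.mem_flatten.1 hu
    obtain ⟨t, ht, rfl⟩ := List.mem_map.1 hw
    have h := moves_ok t (hmem t ht)
    simp only [chkMoves, Bool.and_eq_true, List.all_eq_true] at h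
    exact Nat.le_of_ble_eq_true (h.1.2 u hu)
  have e1 : ev gT (L.map fun t => matW.getD t []).flatten = gT s := by
    refine (inv_mul_eq_one.1 (Classical.SpSix.det ((ev gT (L.map fun t => matW.getD t []).flatten)⁻¹ * gT s)
      fun r hr => ?_))
    have e : piA (gT s) r = piA (ev gT (L.map fun t => matW.getD t []).flatten) r := Fin.ext (by
      rw [Classical.SpSix.homA.apply_ev _ hl, Classical.SpSix.homA.gen, actA.perm_apply Classical.SpSix.act_inv hs]
      exact (Nat.eq_of_beq_eq_true (hpt r hr)).symm)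
    rw [map_mul, map_inv, Equiv.Perm.mul_apply, e, Equiv.Perm.inv_def, Equiv.symm_apply_apply]
  rw [SetLike.mem_coe, ← e1, ev_flatten, List.map_map]
  refine list_prod_mem fun y hy => ?_
  obtain ⟨t, ht, rfl⟩ := List.mem_map.1 hy
  have htl := hmem t ht
  have hwC : ev g c0W[t] ∈ C := comm_le cen_comm (mem_val (List.getElem_mem _))
  refine ⟨⟨_, hwC⟩, (rhoF_spec ⟨_, hwC⟩).unique ?_⟩
  have h := moves_ok t htl
  rw [List.getD_eq_getElem _ _ htl] at h
  exact moves_of_chk h

theorem card_ker : Nat.card rho.ker = 512 := by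
  have h := Subgroup.card_eq_card_quotient_mul_card_subgroup rho.ker
  rw [card_C, Nat.card_congr (QuotientGroup.quotientKerEquivOfSurjective rho rho_surjective).toEquiv, card_G0] at h
  exact Nat.eq_of_mul_eq_mul_left (by norm_num : 0 < 1451520) (h.symm.trans (by norm_num))

theorem ker_comm {w : List ℕ} (hw : w ∈ qW) : ev g w ∈ C ∧ ∀ hc : ev g w ∈ C, rho ⟨ev g w, hc⟩ = 1 := by
  have h := ker_ok w hw
  simp only [chkKer, Bool.and_eq_true, List.all_eq_true] at h
  obtain ⟨hc, hf⟩ := h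
  have hl : ∀ s ∈ w, s < actN.n := fun s hs => by
    simp only [sameW, Bool.and_eq_true, List.all_append, List.all_eq_true] at hc
    exact Nat.le_of_ble_eq_true (hc.1.1.1 s hs)
  refine ⟨Subgroup.mem_centralizer_singleton_iff.2 ?_, fun hcc => ?_⟩
  · rw [← ev_zero, ← ev_append, ← ev_append]
    exact eq_of_same hc
  refine (rhoF_spec ⟨_, hcc⟩).unique fun p q hp hq => ?_
  have key : ∀ r : Fin actN.N, pi (g 0) r = r → pi (ev g w) r = r := fun r hr => Fin.ext (by
    rw [homA.apply_ev w hl]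
    exact Nat.eq_of_beq_eq_true (hf r (fix56_mem hr)))
  rw [key p hp, key q hq, Submonoid.coe_one, Matrix.one_mulVec]

end Cfsg.Agent.Spor.Cos.Co2Out
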