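import Cfsg.Agent.Lib.Spor.Cos.Co2Out.Rep
import Cfsg.Agent.Lib.Spor.Cos.Co2Out.OrbChk

/-!
The centre of a Sylow 2-subgroup in a group on 4600 points.
-/

set_option autoImplicit false
set_option maxRecDepth 100000
set_option maxHeartbeats 4000000

namespace Cfsg.Agent.Spor.Cos.Co2Out

open Triple

theorem eq_of_same {v w : List ℕ} (h : sameW actN ptsN v w = true) : ev g v = ev g w := eq_of_sameW homA det h

theorem ev_zero : ev g [0] = g 0 := mul_one _

theorem g_ne {s : ℕ} (hs : s < 5) : g s ≠ 1 := by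
  have h : ∀ k < 5, agree actN ptsN [k] [] = false := by decide +kernel
  have hlt : s < actN.n := by have : actN.n = 7 := rfl; omega
  have := Central.ne_of_agree (g := g) homA pts_lt (v := [s]) (w := []) (by simpa using hlt) (by simp) (h s hs)
  simpa [ev] using this

theorem comm_le {G' : List (List ℕ)} (h : (G'.all fun w => sameW actN ptsN (w ++ [0]) ([0] ++ w)) = true) :
    val g G' ≤ Subgroup.centralizer ({g 0} : Set H) := by
  refine (Subgroup.closure_le _).2 ?_
  rintro _ ⟨w, hw, rfl⟩
  rw [SetLike.mem_coe, Subgroup.mem_centralizer_singleton_iff, ← ev_zero, ← ev_append, ← ev_append]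
  exact eq_of_same (List.all_eq_true.1 h w hw)

theorem lev_sp : LevR g actN pi s1W 128 (ptsS.drop 1) := by
  have k1 : s1.Ok actN s1W (ptsS.getD 1 0) := ⟨by decide +kernel, by decide, by decide +kernel⟩
  exact LevR.step homA LevR.nil k1 (by decide +kernel) (by decide +kernel) (by decide +kernel)

theorem s0_ok : s0.Ok actN s0W (ptsS.getD 0 0) := ⟨by decide +kernel, by decide, by decide +kernel⟩

theorem lev_s : LevR g actN pi s0W 262144 ptsS :=
  LevR.step homA lev_sp s0_ok (by decide +kernel) (by decide +kernel) (by decide +kernel)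

theorem pc_chk : ∀ k < pcW.length, chkPc actN ptsN pcW pcE k = true := by decide +kernel

theorem pc_len : pcW.length = 18 := by decide +kernel

theorem s0W_eq : s0W = pcW ++ s1W := by decide +kernel

theorem s1E_chk : ((List.range s1W.length).all fun i => ((s1Exp.getD i []).all fun t => Nat.blt t 18) &&
    sameW actN ptsN (s1W.getD i []) (subW pcW (s1Exp.getD i []))) = true := by decide +kernel

theorem val_s0 : val g s0W = val g pcW := by
  refine le_antisymm ((Subgroup.closure_le _).2 ?_) (Subgroup.closure_mono ?_)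
  · rintro _ ⟨w, hw, rfl⟩
    rw [s0W_eq, List.mem_append] at hw
    rcases hw with hw | hw
    · exact mem_val hw
    · obtain ⟨i, hi, rfl⟩ := List.mem_iff_getElem.1 hw
      have h := List.all_eq_true.1 s1E_chk i (List.mem_range.2 hi)
      simp only [Bool.and_eq_true, List.all_eq_true] at h
      rw [← List.getD_eq_getElem _ [] hi, SetLike.mem_coe, eq_of_same h.2, ev_subW]
      refine ev_mem _ fun t ht => ?_
      have ht' : t < pcW.length := pc_len.symm ▸ Nat.le_of_ble_eq_true (h.1 t ht)
      refine mem_val ?_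
      rw [List.getD_eq_getElem _ _ ht']
      exact List.getElem_mem _
  · rintro _ ⟨w, hw, rfl⟩
    exact ⟨w, by rw [s0W_eq]; exact List.mem_append_left _ hw, rfl⟩

/-- The Sylow subgroup. -/
noncomputable abbrev S0 : Subgroup H := val g s0W

theorem card_S0 : Nat.card S0 = 262144 := by
  refine le_antisymm ?_ lev_s.le
  rw [show S0 = val g pcW from val_s0]
  refine (card_val_le_pc homA g_sq det pc_chk).trans ?_
  rw [pc_len]
  norm_num

theorem syl_comm : (s0W.all fun w => sameW actN ptsN (w ++ [0]) ([0] ++ w)) = true := by decide +kernel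

/-- The base point of the Sylow subgroup. -/
def baseS : Fin actN.N := ⟨ptsS.getD 0 0, by decide⟩

theorem s1_le : val g s1W ≤ S0 ⊓ stab pi baseS := by
  refine le_inf (Subgroup.closure_mono ?_) ((Subgroup.closure_le _).2 ?_)
  · rintro _ ⟨w, hw, rfl⟩
    exact ⟨w, by rw [s0W_eq]; exact List.mem_append_right _ hw, rfl⟩
  · rintro _ ⟨w, hw, rfl⟩
    exact mem_stab.2 (homA.apply_ev_eq (ws := s1W) (by decide +kernel) (by decide +kernel) hw)

theorem s1_eq : val g s1W = S0 ⊓ stab pi baseS := by
  refine Subgroup.eq_of_le_of_card_ge s1_le (le_trans ?_ lev_sp.le)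
  have hr := s0_ok.reach homA baseS rfl
  choose t ht htp using hr
  let f : Fin s0.m × ↥(S0 ⊓ stab pi baseS) → S0 := fun p =>
    ⟨t p.1 p.1.2 * p.2, mul_mem (ht _ _) p.2.2.1⟩
  have hf : Function.Injective f := by
    rintro ⟨i, a⟩ ⟨j, b⟩ e
    have e1 : t i i.2 * (a : H) = t j j.2 * b := congrArg Subtype.val e
    have hp : (pi (t i i.2) baseS : ℕ) = pi (t j j.2) baseS := by
      have := congrArg (fun y => (pi y baseS : ℕ)) e1
      simp only [map_mul, Equiv.Perm.mul_apply, mem_stab.1 a.2.2, mem_stab.1 b.2.2] at this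
      exact this
    rw [htp, htp] at hp
    have := congrArg s0.pos.at hp
    rw [(s0_ok.pt_lt i.2).2, (s0_ok.pt_lt j.2).2] at this
    obtain rfl : i = j := Fin.ext this
    exact Prod.ext rfl (Subtype.ext (mul_left_cancel e1))
  have h := Nat.card_le_card_of_injective f hf
  rw [Nat.card_prod, Nat.card_fin, card_S0, show s0.m = 2048 from rfl] at h
  omega

theorem sp_chk : ∀ i < 128, Central.chkList actN ptsN spD i = true := by decide +kernel

theorem sp_one : spOne < 128 ∧ sameW actN ptsN (spD.word spOne) [] = true := by decide +kernel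

theorem sp_listed : ∀ y ∈ val g s1W, ∃ i < 128, ev g (spD.word i) = y :=
  (Central.listed homA pts_lt det (D := spD) sp_chk sp_one.1 sp_one.2).1

theorem fix_chk : ∀ p < 4600, chkFixS p = true := by decide +kernel

theorem cen_chk : ((List.range fixS.length).all fun i =>
    (List.range 128).all (chkCen i) && Nat.beq (actN.go (fixWord i) (ptsS.getD 0 0)) (fixS.getD i 0)) = true := by
  decide +kernel

theorem central {y : H} (hy : y ∈ S0) (hy1 : y ≠ 1) (hc : ∀ u ∈ S0, y * u = u * y) : y = g 0 := by
  set q := pi y baseS with hq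
  have hmem : s0.mem q = true := by
    have h := s0_ok.orbit_eq orb_ok homA baseS rfl
    exact (Set.ext_iff.1 h q).1 ⟨y, hy, rfl⟩
  have hfix : ∀ v ∈ s1W, actN.go v q = q := by
    intro v hv
    have hv' : ev g v ∈ S0 ⊓ stab pi baseS := s1_le (mem_val hv)
    have hl : ∀ s ∈ v, s < actN.n := Act.lt_of_lettersOk (ws := s1W) (by decide +kernel) hv
    rw [← homA.apply_ev v hl, hq, ← Equiv.Perm.mul_apply, ← map_mul, ← hc _ hv'.1, map_mul, Equiv.Perm.mul_apply,
      mem_stab.1 hv'.2]
  have h := fix_chk q q.2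
  simp only [chkFixS, hmem, Bool.not_true, Bool.false_or, Bool.or_eq_true, List.any_eq_true, Bool.not_eq_true'] at h
  rcases h with ⟨v, hv, h⟩ | ⟨r, hr, h⟩
  · rw [hfix v hv, Nat.beq_refl] at h
    exact Bool.noConfusion h
  obtain ⟨i, hi, rfl⟩ := List.mem_iff_getElem.1 hr
  have hiq : (q : ℕ) = fixS.getD i 0 := (Nat.eq_of_beq_eq_true h).trans (List.getD_eq_getElem _ _ hi).symm
  have hh := List.all_eq_true.1 cen_chk i (List.mem_range.2 hi)
  rw [Bool.and_eq_true, List.all_eq_true] at hh
  have ht : ev g (fixWord i) ∈ S0 := s0.tword_mem s0W 64 _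
  have hl : ∀ s ∈ fixWord i, s < actN.n := fun s hs => by
    have := hh.1 0 (List.mem_range.2 (by norm_num))
    simp only [chkCen, Bool.and_eq_true, List.all_eq_true] at this
    exact Nat.le_of_ble_eq_true (this.1 s (List.mem_append_left _ hs))
  have htq : pi (ev g (fixWord i)) baseS = q := Fin.ext (by
    rw [homA.apply_ev _ hl, hiq]
    exact Nat.eq_of_beq_eq_true hh.2)
  have hst : (ev g (fixWord i))⁻¹ * y ∈ val g s1W := by
    rw [s1_eq]
    exact Subgroup.mem_inf.2 ⟨Subgroup.mul_mem _ (Subgroup.inv_mem _ ht) hy, exists_apply_eq_iff.1 (htq.trans hq)⟩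
  obtain ⟨j, hj, e⟩ := sp_listed _ hst
  have ey : ev g (fixWord i ++ spD.word j) = y := by rw [ev_append, e, mul_inv_cancel_left]
  have hk := hh.1 j (List.mem_range.2 hj)
  simp only [chkCen, Bool.and_eq_true, Bool.or_eq_true, List.all_eq_true, List.any_eq_true, Bool.not_eq_true'] at hk
  obtain ⟨hwl, (hk | hk) | ⟨v, hv, hvl, hk⟩⟩ := hk
  · refine absurd ?_ hy1
    rw [← ey]
    exact ev_eq_of_agree homA det (v := fixWord i ++ spD.word j) (w := [])
      (by simp only [Act.lettersOk, List.all_cons, List.all_nil, Bool.and_true, List.all_eq_true]; exact hwl) rfl hk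
  · rw [← ey, eq_of_same hk, ev_zero]
  · exfalso
    refine Central.ne_of_agree (g := g) homA pts_lt (fun s hs => ?_) (fun s hs => ?_) hk ?_
    · exact (List.mem_append.1 hs).elim (fun h' => Nat.le_of_ble_eq_true (hwl s h'))
        fun h' => Nat.le_of_ble_eq_true (hvl s h')
    · exact (List.mem_append.1 hs).elim (fun h' => Nat.le_of_ble_eq_true (hvl s h'))
        fun h' => Nat.le_of_ble_eq_true (hwl s h')
    rw [ev_append g (fixWord i ++ spD.word j) v, ev_append g v (fixWord i ++ spD.word j), ey]
    exact hc _ (show ev g v ∈ val g s0W from (SetLike.ext_iff.1 val_s0 _).2 (mem_val hv))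

theorem fact_two {k : ℕ} (hk : ¬ 2 ∣ k) : (2 ^ 18 * k).factorization 2 = 18 := by
  rw [Nat.factorization_mul (by norm_num) (fun e => hk (by rw [e]; exact dvd_zero 2)), Finsupp.add_apply,
    Nat.Prime.factorization_pow Nat.prime_two, Finsupp.single_eq_same, Nat.factorization_eq_zero_of_not_dvd hk]

theorem cls (φ : MulAut H) : IsConj (g 0) (φ (g 0)) := by
  refine Central.cls_core (S0 := S0) ?_ (fun u hu => ?_) (fun y hy hy1 hc => central hy hy1 hc) (g_sq 0)
    (g_ne (by norm_num)) φ
  · rw [card_S0, card_H, show (42305421312000 : ℕ) = 2 ^ 18 * 161382375 by norm_num, fact_two (by norm_num)]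
    norm_num
  · exact (Subgroup.mem_centralizer_singleton_iff.1 (comm_le syl_comm hu)).symm

end Cfsg.Agent.Spor.Cos.Co2Out
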