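import Cfsg.Agent.Lib.Spor.Cos.OutTree2
import Cfsg.Agent.Lib.Spor.Cos.Co2Out.ActData
import Cfsg.Agent.Lib.Spor.Cos.Co2Out.ClsData
import Cfsg.Agent.Lib.Spor.Cos.Co2Out.TriData

/-! Data and checks for the automorphisms of a group on 4600 points. -/

set_option autoImplicit false
set_option maxRecDepth 100000
set_option maxHeartbeats 4000000

namespace Cfsg.Agent.Spor.Cos.Co2Out

open Triple

/-- The tree. -/
def treeD : Tree5.Data := ⟨nodeW, nodeD, invW, conjW, relW, edgeT⟩

/-- The check of an edge of the tree. -/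
noncomputable def chkTree (e : ℕ) : Bool := Tree6.chkEdge treeD actN ptsN e

end Cfsg.Agent.Spor.Cos.Co2Out
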